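import Groth.Prelude.Def_W4c3degenlocivbPfaff
import Mathlib.RingTheory.MvPolynomial.Homogeneous
import Mathlib.LinearAlgebra.Matrix.NonsingularInverse
import Mathlib.LinearAlgebra.Matrix.ToLin
import Mathlib.Algebra.MvPolynomial.Eval

/-!
# Sub-Pfaffians of a path matrix of linear forms
-/

set_option autoImplicit false
universe u

open MvPolynomial

namespace PfPathLib

theorem pf_map {R S : Type*} [CommRing R] [CommRing S] (φ : R →+* S) :
    ∀ (n : ℕ) (T : Matrix (Fin n) (Fin n) R),
      φ (W4c3degenlocivb.pf n T) = W4c3degenlocivb.pf n (T.map φ) := by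
  intro n
  induction n using Nat.twoStepInduction with
  | zero => intro T; simp [W4c3degenlocivb.pf]
  | one => intro T; simp [W4c3degenlocivb.pf]
  | more n ih _ =>
    intro T
    simp only [W4c3degenlocivb.pf, map_sum, map_mul, map_pow, map_neg, map_one]
    refine Finset.sum_congr rfl fun j _ => ?_
    rw [ih, Matrix.submatrix_map]
    rfl

theorem pf_isHomogeneous {R : Type*} [CommRing R] {σ : Type*} :
    ∀ (m : ℕ) (T : Matrix (Fin (2 * m)) (Fin (2 * m)) (MvPolynomial σ R)),
      (∀ a b, (T a b).IsHomogeneous 1) → (W4c3degenlocivb.pf (2 * m) T).IsHomogeneous m := by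
  intro m
  induction m with
  | zero => intro T _; exact isHomogeneous_one σ R
  | succ m ih =>
    intro T hT
    show (W4c3degenlocivb.pf (2 * m + 2) T).IsHomogeneous (m + 1)
    rw [W4c3degenlocivb.pf]
    refine IsHomogeneous.sum _ _ _ fun j _ => ?_
    have h0 : ((-1 : MvPolynomial σ R) ^ ((j : ℕ) + 1)).IsHomogeneous 0 := by
      have := (isHomogeneous_C σ ((-1 : R) ^ ((j : ℕ) + 1)))
      rwa [map_pow, map_neg, map_one] at this
    have := (h0.mul (hT (Fin.last (2 * m + 1)) (Fin.castSucc j))).mul
      (ih (T.submatrix (Fin.castSucc ∘ j.succAbove) (Fin.castSucc ∘ j.succAbove)) fun a b => hT _ _)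
    rwa [show 0 + 1 + m = m + 1 by omega] at this

theorem pf_path {R : Type*} [CommRing R] (w : ℕ → R) :
    ∀ (m : ℕ) (T : Matrix (Fin (2 * m)) (Fin (2 * m)) R),
      (∀ a b : Fin (2 * m), (b : ℕ) < a → T a b = if (a : ℕ) = b + 1 then -w b else 0) →
      W4c3degenlocivb.pf (2 * m) T = ∏ t ∈ Finset.range m, w (2 * t) := by
  intro m
  induction m with
  | zero => intro T _; rfl
  | succ m ih =>
    intro T hT
    show W4c3degenlocivb.pf (2 * m + 2) T = _
    rw [W4c3degenlocivb.pf, Finset.sum_eq_single (Fin.last (2 * m)) ?_ (fun h => absurd (Finset.mem_univ _) h)]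
    · have hsub := ih (T.submatrix (Fin.castSucc ∘ (Fin.last (2 * m)).succAbove)
        (Fin.castSucc ∘ (Fin.last (2 * m)).succAbove)) fun a b hab => by
        rw [Matrix.submatrix_apply, hT _ _ (by simpa [Fin.succAbove_last] using hab)]
        simp [Fin.succAbove_last]
      rw [hsub, Finset.prod_range_succ, hT _ _ (by simp)]
      simp only [Fin.val_last, Fin.val_castSucc, if_true]
      rw [Odd.neg_one_pow ⟨m, rfl⟩]
      ring
    · intro j _ hj
      have hj' : (j : ℕ) < 2 * m := by
        have := j.isLt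
        have : (j : ℕ) ≠ 2 * m := fun e => hj (Fin.ext e)
        omega
      rw [hT _ _ (by simp; omega), if_neg (by simp; omega)]
      simp

/-- The exponent of `X 0 ^ d * X 1 ^ (r - d)`. -/
noncomputable def mon (r d : ℕ) : Fin 2 →₀ ℕ := Finsupp.single 0 d + Finsupp.single 1 (r - d)

theorem mon_injective {r d d' : ℕ} (h : mon r d = mon r d') : d = d' := by
  have := DFunLike.congr_fun h 0
  simpa [mon] using this

theorem eq_of_coeff_mon {k : Type*} [CommRing k] {r : ℕ} {p q : MvPolynomial (Fin 2) k}
    (hp : p.IsHomogeneous r) (hq : q.IsHomogeneous r)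
    (h : ∀ d : Fin (r + 1), coeff (mon r d) p = coeff (mon r d) q) : p = q := by
  ext e
  by_cases he : e.degree = r
  · have h2 : e 0 + e 1 = r := by
      rw [← he, Finsupp.degree_eq_sum, Fin.sum_univ_two]
    have : e = mon r (e 0) := by
      ext i
      fin_cases i <;> simp [mon] <;> omega
    rw [this]
    exact h ⟨e 0, by omega⟩
  · rw [hp.coeff_eq_zero he, hq.coeff_eq_zero he]

/-- The coefficient matrix of the sub-Pfaffians of even index. -/
noncomputable def coeffMat {P : Type*} [CommRing P] (r : ℕ)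
    (c : Fin (2 * r + 1) → Fin (2 * r + 1) → Fin 2 → P) : Matrix (Fin (r + 1)) (Fin (r + 1)) P :=
  Matrix.of fun j d => coeff (mon r d) (W4c3degenlocivb.pf (2 * r)
    ((Matrix.of fun a b => ∑ l : Fin 2, C (c a b l) * X l).submatrix
      (⟨2 * j, by omega⟩ : Fin (2 * r + 1)).succAbove (⟨2 * j, by omega⟩ : Fin (2 * r + 1)).succAbove))

theorem coeffMat_map {P Q : Type*} [CommRing P] [CommRing Q] (φ : P →+* Q) (r : ℕ)
    (c : Fin (2 * r + 1) → Fin (2 * r + 1) → Fin 2 → P) :
    (coeffMat r c).map φ = coeffMat r fun a b l => φ (c a b l) := by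
  ext j d
  simp only [Matrix.map_apply, coeffMat, Matrix.of_apply]
  rw [← coeff_map, pf_map (MvPolynomial.map φ), ← Matrix.submatrix_map]
  congr
  ext a b
  simp

theorem linear_isHomogeneous {P : Type*} [CommRing P] (e : Fin 2 → P) :
    (∑ l : Fin 2, C (e l) * X l : MvPolynomial (Fin 2) P).IsHomogeneous 1 :=
  IsHomogeneous.sum _ _ _ fun _ _ => isHomogeneous_C_mul_X _ _

theorem span_eq {k : Type u} [Field k] (r : ℕ) (c : Fin (2 * r + 1) → Fin (2 * r + 1) → Fin 2 → k)
    (hdet : (coeffMat r c).det ≠ 0) :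
    Submodule.span k (Set.range fun i : Fin (2 * r + 1) =>
        W4c3degenlocivb.pf (2 * r) ((Matrix.of fun a b => ∑ l : Fin 2, C (c a b l) * X l).submatrix
          i.succAbove i.succAbove)) = homogeneousSubmodule (Fin 2) k r := by
  classical
  set F := fun i : Fin (2 * r + 1) =>
    W4c3degenlocivb.pf (2 * r) ((Matrix.of fun a b => ∑ l : Fin 2, C (c a b l) * X l).submatrix
      i.succAbove i.succAbove) with hF
  have hhom : ∀ i, (F i).IsHomogeneous r := fun i =>
    pf_isHomogeneous r _ fun a b => linear_isHomogeneous _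
  refine le_antisymm (Submodule.span_le.2 ?_) fun p hp => ?_
  · rintro _ ⟨i, rfl⟩
    exact hhom i
  · let A := coeffMat r c
    let v : Fin (r + 1) → k := Matrix.vecMul (fun d : Fin (r + 1) => coeff (mon r d) p) A⁻¹
    have hv : Matrix.vecMul v A = fun d : Fin (r + 1) => coeff (mon r d) p := by
      rw [Matrix.vecMul_vecMul, Matrix.nonsing_inv_mul _ (isUnit_iff_ne_zero.2 hdet), Matrix.vecMul_one]
    have : p = ∑ j : Fin (r + 1), v j • F ⟨2 * j, by omega⟩ := by
      refine eq_of_coeff_mon hp (IsHomogeneous.sum _ _ _ fun j _ => ?_) fun d => ?_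
      · rw [smul_eq_C_mul]
        exact (hhom _).C_mul _
      · rw [coeff_sum]
        simp only [coeff_smul, smul_eq_mul]
        exact (congrFun hv d).symm
    rw [this]
    exact Submodule.sum_mem _ fun j _ => Submodule.smul_mem _ _ (Submodule.subset_span ⟨_, rfl⟩)

/-- The weights of the example path. -/
def wex (k : Type u) [Field k] (n : ℕ) (l : Fin 2) : k :=
  if (l : ℕ) = n % 2 then 1 else 0

/-- The example: a path matrix with alternating weights. -/
def cex (k : Type u) [Field k] (r : ℕ) : Fin (2 * r + 1) → Fin (2 * r + 1) → Fin 2 → k := fun a b l =>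
  if (a : ℕ) + 1 = b then wex k a l else if (b : ℕ) + 1 = a then -wex k b l else 0

theorem cex_skew (k : Type u) [Field k] (r : ℕ) (i j : Fin (2 * r + 1)) (l : Fin 2) :
    cex k r j i l = -cex k r i j l := by
  unfold cex
  split_ifs <;> first | omega | simp

theorem pf_cex (k : Type u) [Field k] (r : ℕ) (j : Fin (r + 1)) :
    W4c3degenlocivb.pf (2 * r) ((Matrix.of fun a b => ∑ l : Fin 2, C (cex k r a b l) * X l).submatrix
      (⟨2 * j, by omega⟩ : Fin (2 * r + 1)).succAbove (⟨2 * j, by omega⟩ : Fin (2 * r + 1)).succAbove) =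
      monomial (mon r j) 1 := by
  let y : ℕ → MvPolynomial (Fin 2) k := fun n => if n % 2 = 0 then X 0 else X 1
  let w : ℕ → MvPolynomial (Fin 2) k := fun i =>
    if i + 1 < 2 * (j : ℕ) then y i else if i + 1 = 2 * (j : ℕ) then 0 else y (i + 1)
  have hy : ∀ n, ∑ l : Fin 2, C (wex k n l) * X l = y n := fun n => by
    rw [Fin.sum_univ_two]
    rcases Nat.mod_two_eq_zero_or_one n with h | h <;> simp [wex, y, h]
  have hval : ∀ a : Fin (2 * r), ((⟨2 * j, by omega⟩ : Fin (2 * r + 1)).succAbove a : ℕ) =
      if (a : ℕ) < 2 * (j : ℕ) then (a : ℕ) else a + 1 := fun a => by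
    rw [Fin.succAbove]
    split_ifs with h1 h2 <;> simp_all [Fin.lt_def]
  rw [pf_path w r]
  · have : ∀ t ∈ Finset.range r, w (2 * t) = if t < (j : ℕ) then X 0 else X 1 := by
      intro t _
      simp only [w, y]
      split_ifs <;> first | omega | rfl
    rw [Finset.prod_congr rfl this, Finset.prod_ite, Finset.prod_const, Finset.prod_const]
    have h1 : ((Finset.range r).filter fun t => t < (j : ℕ)) = Finset.range j := by
      ext t; simp only [Finset.mem_filter, Finset.mem_range]; omega
    have h2 : ((Finset.range r).filter fun t => ¬ t < (j : ℕ)).card = r - j := by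
      have := Finset.card_filter_add_card_filter_not (s := Finset.range r) (fun t => t < (j : ℕ))
      rw [h1, Finset.card_range, Finset.card_range] at this
      omega
    rw [h1, h2, Finset.card_range, X_pow_eq_monomial, X_pow_eq_monomial, monomial_mul, mul_one]
    rfl
  · intro a b hab
    simp only [Matrix.submatrix_apply, Matrix.of_apply]
    by_cases h : ((⟨2 * j, by omega⟩ : Fin (2 * r + 1)).succAbove b : ℕ) + 1 =
        ((⟨2 * j, by omega⟩ : Fin (2 * r + 1)).succAbove a : ℕ)
    · have e : ∀ l, cex k r ((⟨2 * j, by omega⟩ : Fin (2 * r + 1)).succAbove a)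
          ((⟨2 * j, by omega⟩ : Fin (2 * r + 1)).succAbove b) l =
          -wex k ((⟨2 * j, by omega⟩ : Fin (2 * r + 1)).succAbove b : ℕ) l := fun l => by
        unfold cex
        rw [if_neg (by omega), if_pos h]
      simp only [e, map_neg, neg_mul, Finset.sum_neg_distrib, hy]
      rw [hval, hval] at h
      rw [hval, if_pos (show (a : ℕ) = b + 1 by split_ifs at h <;> omega)]
      congr 1
      simp only [w]
      split_ifs at h ⊢ <;> first | omega | rfl
    · have e : ∀ l, cex k r ((⟨2 * j, by omega⟩ : Fin (2 * r + 1)).succAbove a)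
          ((⟨2 * j, by omega⟩ : Fin (2 * r + 1)).succAbove b) l = 0 := fun l => by
        unfold cex
        rw [if_neg ?_, if_neg h]
        rw [hval, hval]
        split_ifs <;> omega
      simp only [e, map_zero, zero_mul, Finset.sum_const_zero]
      rw [hval, hval] at h
      simp only [w]
      split_ifs at h ⊢ <;> first | omega | simp

theorem main (k : Type u) [Field k] (r : ℕ) :
    ∃ Φ : MvPolynomial (Fin (2 * r + 1) × Fin (2 * r + 1) × Fin 2) k,
      (∃ c : Fin (2 * r + 1) → Fin (2 * r + 1) → Fin 2 → k, (∀ i j l, c j i l = -c i j l) ∧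
        eval (fun p => c p.1 p.2.1 p.2.2) Φ ≠ 0) ∧
      ∀ c : Fin (2 * r + 1) → Fin (2 * r + 1) → Fin 2 → k, (∀ i j l, c j i l = -c i j l) →
        eval (fun p => c p.1 p.2.1 p.2.2) Φ ≠ 0 →
        Submodule.span k (Set.range fun i : Fin (2 * r + 1) =>
            W4c3degenlocivb.pf (2 * r) ((Matrix.of fun a b => ∑ l : Fin 2, C (c a b l) * X l).submatrix
              i.succAbove i.succAbove)) = homogeneousSubmodule (Fin 2) k r := by
  refine ⟨(coeffMat r fun a b l => (X (a, b, l) : MvPolynomial (Fin (2 * r + 1) × Fin (2 * r + 1) × Fin 2) k)).det, ?_, ?_⟩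
  · refine ⟨cex k r, cex_skew k r, ?_⟩
    rw [RingHom.map_det, RingHom.mapMatrix_apply, coeffMat_map]
    simp only [eval_X]
    have : coeffMat r (cex k r) = 1 := by
      ext j d
      rw [coeffMat, Matrix.of_apply, pf_cex, coeff_monomial, Matrix.one_apply]
      by_cases h : j = d
      · simp [h]
      · rw [if_neg h, if_neg fun e => h (Fin.ext (mon_injective e))]
    rw [this, Matrix.det_one]
    exact one_ne_zero
  · intro c _ hc
    rw [RingHom.map_det, RingHom.mapMatrix_apply, coeffMat_map] at hc
    simp only [eval_X] at hc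
    exact span_eq r c hc

end PfPathLib
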